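import Cfsg.Agent.Lib.Grp.TM12.D0

set_option autoImplicit false
set_option maxRecDepth 100000

namespace Cfsg.Agent.CG.TM12

noncomputable def tabs : List ℕ := [t0,t1,t2,t3,t4,t5,t6,t7,t8,t9,t10,t11,t12,t13,t14,t15,t16,t17,t18,t19,t20,t21,t22,t23,t24,t25,t26,t27,t28,t29,t30,t31,t32,t33,t34,t35,t36,t37,t38,t39,t40,t41,t42,t43,t44,t45,t46,t47,t48,t49,t50,t51,t52,t53,t54,t55,t56,t57,t58,t59,t60]
noncomputable abbrev app : ℕ → ℕ → ℕ := appT tabs t61 0xff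
noncomputable def slpL : List (Bool × List ℕ) := [(false,[]),
  (false,[]),
  (false,[]),
  (false,[]),
  (false,[]),
  (false,[1,3]),
  (true,[5]),
  (false,[3]),
  (true,[7]),
  (false,[7,7]),
  (false,[5]),
  (true,[10]),
  (false,[0,5,7,4,0,0,4,5,9,6,4,1,1,4,8,6,1]),
  (false,[10,10,10,12,10,12,10]),
  (true,[13]),
  (false,[12,11,14,10,12,13,12]),
  (true,[15]),
  (false,[11,12,15,12,16,14,16]),
  (true,[17]),
  (false,[15,17,14,12,11,17,15,17,15]),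
  (true,[19]),
  (false,[11,11,18,11,14,10,10,10,18,13]),
  (true,[21]),
  (false,[22,20,20,13,17,11,12,10,14,11,14,17]),
  (true,[23]),
  (false,[22,20,13,16,18,16,13,12,11,13,10]),
  (true,[25]),
  (false,[20,11,18,14,15,17,17,17,17,12,16]),
  (true,[27]),
  (false,[24,20,21,11,17,11,14,12,11,18,15,12,17]),
  (true,[29]),
  (false,[26,22,20,12,18,18,11,12,16,18,16]),
  (true,[31]),
  (false,[31,24,21,20,11,15,12,11,18,10,14,10,12,13]),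
  (true,[33]),
  (false,[29,26,21,20,10,17,16,13,11,11,13,18,11]),
  (true,[35]),
  (false,[36,33]),
  (true,[37]),
  (false,[36]),
  (true,[39]),
  (false,[32,29,34]),
  (false,[24,25,30,36]),
  (false,[21,23,30,32,33]),
  (false,[18,10,21,32,29,34]),
  (false,[31,33]),
  (true,[45]),
  (false,[23,29,35]),
  (false,[16,10,19,22,24,25,30,33]),
  (false,[14,20,22,19,24,26,31,36]),
  (false,[17,10,19,19,21,23,26,32,29,36]),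
  (true,[50]),
  (false,[20,22,24]),
  (true,[52]),
  (false,[19,25,31,29,35]),
  (true,[54]),
  (false,[23,25,30,34]),
  (true,[56]),
  (false,[10,10]),
  (true,[58]),
  (false,[11,19,19,21,31,31,29,33,33])]
noncomputable def slp (a : ℕ) : Bool × List ℕ := nth slpL (false, []) a
noncomputable def invL : List ℕ := [1,0,3,2,4,6,5,8,7,9,11,10,12,14,13,16,15,18,17,20,19,22,21,24,23,26,25,28,27,30,29,32,31,34,33,36,35,38,37,40,39,41,42,43,44,46,45,47,48,49,51,50,53,52,55,54,57,56,59,58,60]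
noncomputable def inv (a : ℕ) : ℕ := nth invL 61 a
noncomputable def bs : List ℕ := [8,24,64,48,56]
noncomputable def mc0 : Lvl := ⟨8, [10,11,12,13,14,15,16,17,18], 12,
  fun i => look 0xff mc0c (Nat.mul 8 i), fun i => look 0xf mc0p (Nat.mul 4 i),
  fun i => look 255 mc0l (Nat.mul 8 i), fun i => look 255 mc0i (Nat.mul 8 i), fun x => look 0xff mc0q x, 2⟩
noncomputable def mc1 : Lvl := ⟨24, [19,20,21,22], 11,
  fun i => look 0xff mc1c (Nat.mul 8 i), fun i => look 0xf mc1p (Nat.mul 4 i),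
  fun i => look 255 mc1l (Nat.mul 8 i), fun i => look 255 mc1i (Nat.mul 8 i), fun x => look 0xff mc1q x, 3⟩
noncomputable def mc2 : Lvl := ⟨64, [23,24,25,26,27,28], 10,
  fun i => look 0xff mc2c (Nat.mul 8 i), fun i => look 0xf mc2p (Nat.mul 4 i),
  fun i => look 255 mc2l (Nat.mul 8 i), fun i => look 255 mc2i (Nat.mul 8 i), fun x => look 0xff mc2q x, 2⟩
noncomputable def mc3 : Lvl := ⟨48, [29,30,31,32], 9,
  fun i => look 0xff mc3c (Nat.mul 8 i), fun i => look 0xf mc3p (Nat.mul 4 i),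
  fun i => look 255 mc3l (Nat.mul 8 i), fun i => look 255 mc3i (Nat.mul 8 i), fun x => look 0xff mc3q x, 3⟩
noncomputable def mc4 : Lvl := ⟨56, [33,34,35,36], 8,
  fun i => look 0xff mc4c (Nat.mul 8 i), fun i => look 0xf mc4p (Nat.mul 4 i),
  fun i => look 255 mc4l (Nat.mul 8 i), fun i => look 255 mc4i (Nat.mul 8 i), fun x => look 0xff mc4q x, 2⟩
noncomputable def mc : List Lvl := [mc0, mc1, mc2, mc3, mc4]
noncomputable def tcR : List (List ℕ) := [[37,38],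
  [38,37],
  [39,40],
  [40,39],
  [38,39,37,39],
  [37,37,37,37],
  [40,37,39,37],
  [41,41],
  [41,39,41,37,41,38,39],
  [42,42],
  [42,41,42,41],
  [42,39,42,38,42,38,40],
  [42,40,41,38,42,39,41,38,39],
  [43,43],
  [43,37,43,37],
  [43,41,43,41],
  [43,39,43,38,39],
  [43,42,43,42,43,42],
  [44,44],
  [44,42,44,42],
  [44,43,44,43],
  [44,41,44,41,44,41],
  [44,40,44,37,44,38,40],
  [44,41,39,41,44,39,41,37]]
noncomputable def tc0T : List ℕ := [0,0,0,0,0,0,0,0,0,0,0,0,0,0,0,0,0,0,0,0,0,0,0,0,0,0,0,0,0,0,0,0,0,0,0,0,0,tc0t37,tc0t38,tc0t39,tc0t40,tc0t41,tc0t42,tc0t43,tc0t44]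
noncomputable def tc0r : Tr Rule := (.node (.node (.node (.node (.node (.node (.leaf ⟨44,[44],18,1⟩) (.leaf ⟨37,[44,41,39,41,44,39,41],23,7⟩)) (.leaf ⟨42,[44,42,44],19,3⟩)) (.node (.node (.leaf ⟨38,[39,37,39],4,0⟩) (.leaf ⟨39,[42,38,42,38,40,42],11,1⟩)) (.leaf ⟨44,[41,44,41,44,41],21,4⟩))) (.node (.node (.node (.leaf ⟨39,[40],2,0⟩) (.leaf ⟨41,[42,41,42],10,3⟩)) (.leaf ⟨43,[41,43,41],15,2⟩)) (.node (.leaf ⟨39,[38,39,37],4,3⟩) (.leaf ⟨44,[42,44,42],19,2⟩)))) (.node (.node (.node (.node (.leaf ⟨37,[38],0,0⟩) (.leaf ⟨41,[43,41,43],15,3⟩)) (.leaf ⟨43,[44,43,44],20,3⟩)) (.node (.leaf ⟨37,[40,37,39],6,3⟩) (.leaf ⟨44,[37,44,38,40,44,40],22,2⟩))) (.node (.node (.node (.leaf ⟨42,[42],9,1⟩) (.leaf ⟨38,[42,38,40,42,39,42],11,3⟩)) (.leaf ⟨43,[39,43,38,39],16,0⟩)) (.node (.leaf ⟨39,[37,39,38],4,1⟩) (.leaf ⟨41,[37,44,41,39,41,44,39],23,6⟩)))))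 (.node (.node (.node (.node (.node (.leaf ⟨38,[37],0,1⟩) (.leaf ⟨41,[39,41,44,39,41,37,44],23,1⟩)) (.leaf ⟨42,[41,42,41],10,2⟩)) (.node (.node (.leaf ⟨37,[37,37,37],5,2⟩) (.leaf ⟨39,[43,39,43,38],16,4⟩)) (.leaf ⟨44,[38,40,44,40,44,37],22,4⟩))) (.node (.node (.node (.leaf ⟨41,[41],7,1⟩) (.leaf ⟨42,[40,41,38,42,39,41,38,39],12,0⟩)) (.leaf ⟨43,[38,39,43,39],16,2⟩)) (.node (.leaf ⟨37,[39,38,39],4,2⟩) (.leaf ⟨44,[43,44,43],20,2⟩)))) (.node (.node (.node (.node (.leaf ⟨40,[39],2,1⟩) (.leaf ⟨41,[37,41,38,39,41,39],8,2⟩)) (.leaf ⟨43,[37,43,37],14,2⟩)) (.node (.leaf ⟨37,[39,37,40],6,1⟩) (.leaf ⟨44,[40,44,37,44,38,40],22,0⟩))) (.node (.node (.node (.leaf ⟨43,[43],13,1⟩) (.leaf ⟨37,[43,37,43],14,3⟩)) (.leaf ⟨42,[43,42,43,42,43],17,3⟩)) (.node (.leaf ⟨40,[37,39,37],6,0⟩) (.leaf ⟨39,[41,44,39,41,37,44,41],23,2⟩))))))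
noncomputable def tc0 : TCL := ⟨[37,38,39,40,41,42,43,44], [37,38,39,40,41,42,43], 12, 20, 0xff, 8, 0x3f,
  fun a x => look 0xfffff (nth tc0T 0 a) x, fun x => look 0xfffff tc0d x, tc0r⟩
noncomputable def tc1T : List ℕ := [0,0,0,0,0,0,0,0,0,0,0,0,0,0,0,0,0,0,0,0,0,0,0,0,0,0,0,0,0,0,0,0,0,0,0,0,0,tc1t37,tc1t38,tc1t39,tc1t40,tc1t41,tc1t42,tc1t43]
noncomputable def tc1r : Tr Rule := (.node (.node (.node (.node (.node (.leaf ⟨43,[43],13,1⟩) (.leaf ⟨42,[39,42,38,42,38,40],11,0⟩)) (.node (.leaf ⟨37,[37,37,37],5,2⟩) (.leaf ⟨41,[38,39,41,39,41,37],8,4⟩))) (.node (.node (.leaf ⟨40,[39],2,1⟩) (.leaf ⟨39,[43,39,43,38],16,4⟩)) (.node (.leaf ⟨37,[39,38,39],4,2⟩) (.leaf ⟨43,[42,43,42,43,42],17,4⟩)))) (.node (.node (.node (.leaf ⟨38,[37],0,1⟩) (.leaf ⟨41,[43,41,43],15,3⟩)) (.node (.leaf ⟨37,[39,37,40],6,1⟩) (.leaf ⟨37,[41,38,39,41,39,41],8,3⟩)))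 (.node (.node (.leaf ⟨41,[41],7,1⟩) (.leaf ⟨42,[38,42,38,40,42,39],11,2⟩)) (.node (.leaf ⟨40,[37,39,37],6,0⟩) (.leaf ⟨43,[41,43,41],15,2⟩))))) (.node (.node (.node (.node (.leaf ⟨42,[42],9,1⟩) (.leaf ⟨42,[41,42,41],10,2⟩)) (.node (.leaf ⟨37,[40,37,39],6,3⟩) (.leaf ⟨41,[37,41,38,39,41,39],8,2⟩))) (.node (.node (.leaf ⟨39,[40],2,0⟩) (.leaf ⟨42,[38,40,42,39,42,38],11,4⟩)) (.node (.leaf ⟨39,[37,39,38],4,1⟩) (.leaf ⟨43,[37,43,37],14,2⟩)))) (.node (.node (.node (.leaf ⟨37,[38],0,0⟩) (.leaf ⟨41,[42,41,42],10,3⟩)) (.node (.leaf ⟨39,[38,39,37],4,3⟩) (.leaf ⟨39,[41,37,41,38,39,41],8,1⟩))) (.node (.node (.leaf ⟨38,[39,37,39],4,0⟩) (.leaf ⟨41,[38,42,39,41,38,39,42,40],12,2⟩)) (.leaf ⟨37,[43,37,43],14,3⟩)))))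
noncomputable def tc1 : TCL := ⟨[37,38,39,40,41,42,43], [37,38,39,40,41,42], 11, 20, 0xff, 8, 0x3f,
  fun a x => look 0xfffff (nth tc1T 0 a) x, fun x => look 0xfffff tc1d x, tc1r⟩
noncomputable def tc2T : List ℕ := [0,0,0,0,0,0,0,0,0,0,0,0,0,0,0,0,0,0,0,0,0,0,0,0,0,0,0,0,0,0,0,0,0,0,0,0,0,tc2t37,tc2t38,tc2t39,tc2t40,tc2t41,tc2t42]
noncomputable def tc2r : Tr Rule := (.node (.node (.node (.node (.node (.leaf ⟨42,[42],9,1⟩) (.leaf ⟨42,[38,42,38,40,42,39],11,2⟩)) (.leaf ⟨37,[40,37,39],6,3⟩)) (.node (.node (.leaf ⟨39,[40],2,0⟩) (.leaf ⟨41,[38,42,39,41,38,39,42,40],12,2⟩)) (.leaf ⟨39,[37,39,38],4,1⟩))) (.node (.node (.node (.leaf ⟨37,[38],0,0⟩) (.leaf ⟨42,[41,42,41],10,2⟩)) (.leaf ⟨39,[38,39,37],4,3⟩)) (.node (.node (.leaf ⟨38,[39,37,39],4,0⟩) (.leaf ⟨39,[41,37,41,38,39,41],8,1⟩)) (.leaf ⟨41,[42,41,42],10,3⟩)))) (.node (.node (.node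 (.node (.leaf ⟨38,[37],0,1⟩) (.leaf ⟨42,[39,42,38,42,38,40],11,0⟩)) (.leaf ⟨37,[39,37,40],6,1⟩)) (.node (.node (.leaf ⟨41,[41],7,1⟩) (.leaf ⟨37,[41,38,39,41,39,41],8,3⟩)) (.leaf ⟨40,[37,39,37],6,0⟩))) (.node (.node (.node (.leaf ⟨40,[39],2,1⟩) (.leaf ⟨41,[38,39,42,40,41,38,42,39],12,6⟩)) (.leaf ⟨37,[39,38,39],4,2⟩)) (.node (.leaf ⟨37,[37,37,37],5,2⟩) (.leaf ⟨42,[38,40,42,39,42,38],11,4⟩)))))
noncomputable def tc2 : TCL := ⟨[37,38,39,40,41,42], [37,38,39,40,41], 10, 20, 0xff, 8, 0x1f,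
  fun a x => look 0xfffff (nth tc2T 0 a) x, fun x => look 0xfffff tc2d x, tc2r⟩
noncomputable def tc3T : List ℕ := [0,0,0,0,0,0,0,0,0,0,0,0,0,0,0,0,0,0,0,0,0,0,0,0,0,0,0,0,0,0,0,0,0,0,0,0,0,tc3t37,tc3t38,tc3t39,tc3t40,tc3t41]
noncomputable def tc3r : Tr Rule := (.node (.node (.node (.node (.leaf ⟨41,[41],7,1⟩) (.leaf ⟨37,[39,37,40],6,1⟩)) (.node (.leaf ⟨39,[40],2,0⟩) (.leaf ⟨40,[37,39,37],6,0⟩))) (.node (.node (.leaf ⟨37,[38],0,0⟩) (.leaf ⟨37,[39,38,39],4,2⟩)) (.node (.leaf ⟨37,[37,37,37],5,2⟩) (.leaf ⟨41,[37,41,38,39,41,39],8,2⟩)))) (.node (.node (.node (.leaf ⟨38,[37],0,1⟩) (.leaf ⟨39,[38,39,37],4,3⟩)) (.node (.leaf ⟨38,[39,37,39],4,0⟩) (.leaf ⟨41,[38,39,41,39,41,37],8,4⟩))) (.node (.node (.leaf ⟨40,[39],2,1⟩) (.leaf ⟨39,[37,39,38],4,1⟩)) (.node (.leaf ⟨37,[40,37,39],6,3⟩) (.leaf ⟨41,[39,41,37,41,38,39],8,0⟩)))))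
noncomputable def tc3 : TCL := ⟨[37,38,39,40,41], [37,38,39,40], 9, 16, 0xff, 8, 0x1f,
  fun a x => look 0xffff (nth tc3T 0 a) x, fun x => look 0xffff tc3d x, tc3r⟩
noncomputable def tc4T : List ℕ := [0,0,0,0,0,0,0,0,0,0,0,0,0,0,0,0,0,0,0,0,0,0,0,0,0,0,0,0,0,0,0,0,0,0,0,0,0,tc4t37,tc4t38,tc4t39,tc4t40]
noncomputable def tc4r : Tr Rule := (.node (.node (.node (.node (.leaf ⟨38,[37],0,1⟩) (.leaf ⟨37,[40,37,39],6,3⟩)) (.leaf ⟨37,[39,38,39],4,2⟩)) (.node (.node (.leaf ⟨40,[39],2,1⟩) (.leaf ⟨40,[37,39,37],6,0⟩)) (.leaf ⟨37,[37,37,37],5,2⟩))) (.node (.node (.node (.leaf ⟨37,[38],0,0⟩) (.leaf ⟨37,[39,37,40],6,1⟩)) (.leaf ⟨38,[39,37,39],4,0⟩)) (.node (.leaf ⟨39,[40],2,0⟩) (.leaf ⟨39,[37,40,37],6,2⟩))))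
noncomputable def tc4 : TCL := ⟨[37,38,39,40], [], 8, 16, 0xff, 8, 0xf,
  fun a x => look 0xffff (nth tc4T 0 a) x, fun x => look 0xffff tc4d x, tc4r⟩
noncomputable def tc : List TCL := [tc0, tc1, tc2, tc3, tc4]
noncomputable def inW : List (List ℕ) := [[40,37,44,37,42,43,38,42,37,41,37],
  [37,44,38,42,43,40,42,41],
  [40,42,43,42,40,37,41,39,37],
  [37,42,43,42,39,37,41,40,37],
  [39,37,44,37,42,43,40,37,42,37,41,40]]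
noncomputable def tcS : List ℕ := [37,38,39,40,41,42,43,44]

end Cfsg.Agent.CG.TM12
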