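import Cfsg.Agent.Lib.Grp.TM12.ODefs

set_option autoImplicit false
set_option maxRecDepth 100000

namespace Cfsg.Agent.CG.TM12

theorem Oc109 : cc0.chk (appT tabs t61 0xff) 1 7 = true := by decide +kernel
theorem Oc110 : cc1.chk (appT tabs t61 0xff) 1 5 = true := by decide +kernel
theorem Oc111 : cc2.chk (appT tabs t61 0xff) 1 3 = true := by decide +kernel
theorem Oc112 : okcb 12 8 (bases cc) = true := by decide +kernel
theorem Oc113 : headAll (appT tabs t61 0xff) cc [] = true := by decide +kernel
theorem Oc114 : tp0.head tpR = true := by decide +kernel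
theorem Oc115 : allL (fun a => tp0.chk a 0 tp0.N) tp0.S = true := by decide +kernel
theorem Oc116 : tp1.head tpR = true := by decide +kernel
theorem Oc117 : allL (fun a => tp1.chk a 0 tp1.N) tp1.S = true := by decide +kernel
theorem Oc118 : tp2.head tpR = true := by decide +kernel
theorem Oc119 : allL (fun a => tp2.chk a 0 tp2.N) tp2.S = true := by decide +kernel
theorem Oc120 : tcLink tp [] [45,46,47,48] = true := by decide +kernel
theorem Oc121 : pc0.chk (appT tabs t61 0xff) 1 7 = true := by decide +kernel
theorem Oc122 : pc1.chk (appT tabs t61 0xff) 1 1 = true := by decide +kernel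
theorem Oc123 : pc2.chk (appT tabs t61 0xff) 1 3 = true := by decide +kernel
theorem Oc124 : okcb 12 8 (bases pc) = true := by decide +kernel
theorem Oc125 : headAll (appT tabs t61 0xff) pc [] = true := by decide +kernel
theorem Oc126 : allL (fun v => eqW (appT tabs t61 0xff) bs v []) tpR = true := by decide +kernel
theorem Oc127 : trChk (appT tabs t61 0xff) mc0 [mc1, mc2, mc3, mc4] bs (diagQ pQ) (diagQ pR) pF 0 12 = true := by decide +kernel
theorem Oc128 : classChk (appT tabs t61 0xff) bs 12 2 49 [13,19,24,31,31,29,35,33] pS pF pU = true := by decide +kernel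
theorem Oc129 : powChk (appT tabs t61 0xff) bs 10 11 aK nK = true := by decide +kernel
theorem Oc130 : en.chk (appT tabs t61 0xff) tst 0 495 0 379303512097 = true := by decide +kernel
theorem Oc131 : commAll (appT tabs t61 0xff) bs 12 cc = true := by decide +kernel
theorem Oc132 : relChk (appT tabs t61 0xff) bs 10 12 rT = true := by decide +kernel
theorem Oc133 : eqW (appT tabs t61 0xff) bs (substW img [37,38]) [] = true := by decide +kernel
theorem Oc134 : eqW (appT tabs t61 0xff) bs (substW img [38,37]) [] = true := by decide +kernel
theorem Oc135 : eqW (appT tabs t61 0xff) bs (substW img [39,40]) [] = true := by decide +kernel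
theorem Oc136 : eqW (appT tabs t61 0xff) bs (substW img [40,39]) [] = true := by decide +kernel
theorem Oc137 : eqW (appT tabs t61 0xff) bs (substW img [38,39,37,39]) [] = true := by decide +kernel
theorem Oc138 : eqW (appT tabs t61 0xff) bs (substW img [37,37,37,37]) [] = true := by decide +kernel
theorem Oc139 : eqW (appT tabs t61 0xff) bs (substW img [40,37,39,37]) [] = true := by decide +kernel
theorem Oc140 : eqW (appT tabs t61 0xff) bs (substW img [41,41]) [] = true := by decide +kernel
theorem Oc141 : eqW (appT tabs t61 0xff) bs (substW img [41,39,41,37,41,38,39]) [] = true := by decide +kernel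
theorem Oc142 : eqW (appT tabs t61 0xff) bs (substW img [42,42]) [] = true := by decide +kernel
theorem Oc143 : eqW (appT tabs t61 0xff) bs (substW img [42,41,42,41]) [] = true := by decide +kernel
theorem Oc144 : eqW (appT tabs t61 0xff) bs (substW img [42,39,42,38,42,38,40]) [] = true := by decide +kernel
theorem Oc145 : eqW (appT tabs t61 0xff) bs (substW img [42,40,41,38,42,39,41,38,39]) [] = true := by decide +kernel
theorem Oc146 : eqW (appT tabs t61 0xff) bs (substW img [43,43]) [] = true := by decide +kernel
theorem Oc147 : eqW (appT tabs t61 0xff) bs (substW img [43,37,43,37]) [] = true := by decide +kernel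
theorem Oc148 : eqW (appT tabs t61 0xff) bs (substW img [43,41,43,41]) [] = true := by decide +kernel
theorem Oc149 : eqW (appT tabs t61 0xff) bs (substW img [43,39,43,38,39]) [] = true := by decide +kernel
theorem Oc150 : eqW (appT tabs t61 0xff) bs (substW img [43,42,43,42,43,42]) [] = true := by decide +kernel
theorem Oc151 : eqW (appT tabs t61 0xff) bs (substW img [44,44]) [] = true := by decide +kernel
theorem Oc152 : eqW (appT tabs t61 0xff) bs (substW img [44,42,44,42]) [] = true := by decide +kernel
theorem Oc153 : eqW (appT tabs t61 0xff) bs (substW img [44,43,44,43]) [] = true := by decide +kernel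
theorem Oc154 : eqW (appT tabs t61 0xff) bs (substW img [44,41,44,41,44,41]) [] = true := by decide +kernel
theorem Oc155 : eqW (appT tabs t61 0xff) bs (substW img [44,40,44,37,44,38,40]) [] = true := by decide +kernel
theorem Oc156 : eqW (appT tabs t61 0xff) bs (substW img [44,41,39,41,44,39,41,37]) [] = true := by decide +kernel
theorem Oc157 : trChk (appT tabs t61 0xff) mc0 [mc1, mc2, mc3, mc4] bs (pairQ 10 12 58 60 nQ) (pairQ 10 12 58 60 [[0], [1]]) [] 0 12 = true := by decide +kernel

end Cfsg.Agent.CG.TM12
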