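import Cfsg.Agent.Lib.Grp.TM12.OD1
import Cfsg.Agent.Lib.Grp.TM12.Defs

set_option autoImplicit false
set_option maxRecDepth 100000

namespace Cfsg.Agent.CG.TM12

noncomputable def cc0 : Lvl := ⟨8, [50,51], 8,
  fun i => look 0xff cc0c (Nat.mul 8 i), fun i => look 0xf cc0p (Nat.mul 4 i),
  fun i => look 255 cc0l (Nat.mul 8 i), fun i => look 255 cc0i (Nat.mul 8 i), fun x => look 0xff cc0q x, 4⟩
noncomputable def cc1 : Lvl := ⟨24, [52,53,54,55], 6,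
  fun i => look 0xff cc1c (Nat.mul 8 i), fun i => look 0xf cc1p (Nat.mul 4 i),
  fun i => look 255 cc1l (Nat.mul 8 i), fun i => look 255 cc1i (Nat.mul 8 i), fun x => look 0xff cc1q x, 2⟩
noncomputable def cc2 : Lvl := ⟨64, [56,57], 4,
  fun i => look 0xff cc2c (Nat.mul 8 i), fun i => look 0xf cc2p (Nat.mul 4 i),
  fun i => look 255 cc2l (Nat.mul 8 i), fun i => look 255 cc2i (Nat.mul 8 i), fun x => look 0xff cc2q x, 2⟩
noncomputable def cc : List Lvl := [cc0, cc1, cc2]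
noncomputable def pc0 : Lvl := ⟨8, [45,46,48], 8,
  fun i => look 0xff pc0c (Nat.mul 8 i), fun i => look 0xf pc0p (Nat.mul 4 i),
  fun i => look 255 pc0l (Nat.mul 8 i), fun i => look 255 pc0i (Nat.mul 8 i), fun x => look 0xff pc0q x, 4⟩
noncomputable def pc1 : Lvl := ⟨64, [47], 2,
  fun i => look 0xff pc1c (Nat.mul 8 i), fun i => look 0xf pc1p (Nat.mul 4 i),
  fun i => look 255 pc1l (Nat.mul 8 i), fun i => look 255 pc1i (Nat.mul 8 i), fun x => look 0xff pc1q x, 1⟩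
noncomputable def pc2 : Lvl := ⟨48, [45,46], 4,
  fun i => look 0xff pc2c (Nat.mul 8 i), fun i => look 0xf pc2p (Nat.mul 4 i),
  fun i => look 255 pc2l (Nat.mul 8 i), fun i => look 255 pc2i (Nat.mul 8 i), fun x => look 0xff pc2q x, 2⟩
noncomputable def pc : List Lvl := [pc0, pc1, pc2]
noncomputable def tpR : List (List ℕ) := [[45,46],
  [46,45],
  [45,45,45,45],
  [47,47],
  [47,45,47,45],
  [48,48],
  [48,47,48,47],
  [48,46,48,45,48,45,48,46]]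
noncomputable def tp0T : List ℕ := [0,0,0,0,0,0,0,0,0,0,0,0,0,0,0,0,0,0,0,0,0,0,0,0,0,0,0,0,0,0,0,0,0,0,0,0,0,0,0,0,0,0,0,0,0,tp0t45,tp0t46,tp0t47,tp0t48]
noncomputable def tp0r : Tr Rule := (.node (.node (.node (.node (.leaf ⟨48,[48],5,1⟩) (.leaf ⟨45,[48,45,48,46,48,46,48],7,3⟩)) (.leaf ⟨47,[48,47,48],6,3⟩)) (.node (.node (.leaf ⟨45,[46],0,0⟩) (.leaf ⟨46,[48,45,48,45,48,46,48],7,1⟩)) (.leaf ⟨47,[47],3,1⟩))) (.node (.node (.node (.leaf ⟨46,[45],0,1⟩) (.leaf ⟨46,[48,46,48,45,48,45,48],7,7⟩)) (.leaf ⟨47,[45,47,45],4,2⟩)) (.node (.leaf ⟨45,[45,45,45],2,2⟩) (.leaf ⟨45,[48,46,48,46,48,45,48],7,5⟩))))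
noncomputable def tp0 : TCL := ⟨[45,46,47,48], [45,46,47], 8, 16, 0xff, 8, 0xf,
  fun a x => look 0xffff (nth tp0T 0 a) x, fun x => look 0xffff tp0d x, tp0r⟩
noncomputable def tp1T : List ℕ := [0,0,0,0,0,0,0,0,0,0,0,0,0,0,0,0,0,0,0,0,0,0,0,0,0,0,0,0,0,0,0,0,0,0,0,0,0,0,0,0,0,0,0,0,0,tp1t45,tp1t46,tp1t47]
noncomputable def tp1r : Tr Rule := (.node (.node (.leaf ⟨47,[47],3,1⟩) (.leaf ⟨46,[45],0,1⟩)) (.leaf ⟨45,[47,45,47],4,3⟩))
noncomputable def tp1 : TCL := ⟨[45,46,47], [45,46], 2, 16, 0x3f, 6, 0x7,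
  fun a x => look 0xffff (nth tp1T 0 a) x, fun x => look 0xffff tp1d x, tp1r⟩
noncomputable def tp2T : List ℕ := [0,0,0,0,0,0,0,0,0,0,0,0,0,0,0,0,0,0,0,0,0,0,0,0,0,0,0,0,0,0,0,0,0,0,0,0,0,0,0,0,0,0,0,0,0,tp2t45,tp2t46]
noncomputable def tp2r : Tr Rule := (.node (.node (.leaf ⟨46,[45],0,1⟩) (.leaf ⟨45,[45,45,45],2,2⟩)) (.leaf ⟨45,[46],0,0⟩))
noncomputable def tp2 : TCL := ⟨[45,46], [], 4, 16, 0x7f, 7, 0x7,
  fun a x => look 0xffff (nth tp2T 0 a) x, fun x => look 0xffff tp2d x, tp2r⟩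
noncomputable def tp : List TCL := [tp0, tp1, tp2]
noncomputable def pS : List ℕ := [45,46,47,48]
noncomputable def pQ : List (List ℕ) := [[],
  [48,45,45,48],
  [48,46,48],
  [45,45,48],
  [45,48]]
noncomputable def pR : List (List ℕ) := [[45],
  [46],
  [47],
  [48]]
noncomputable def pF : List (List ℕ) := [[],
  [14,20,22,19,24,26,31,36]]
noncomputable def pU : List (List ℕ) := [[16,10,21,24,25,33]]
noncomputable def aK : List ℕ := [10,58]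
noncomputable def nK : List (List ℕ × ℕ) := [([],0),
  ([],10),
  ([],58),
  ([16,20,22,19,24,25,29],10),
  ([16,10,19,22,31,33,33],10),
  ([12,20,22,24,26,31,33],10),
  ([16,20,22,19,24,25,29],58),
  ([18,10,20,22,27,35,33],58),
  ([16,10,19,22,31,33,33],58),
  ([18,10,20,22,27,35,33],10),
  ([12,20,22,24,26,31,33],58)]
noncomputable def rT : List (List ℕ × ℕ) := [([0,1,0,1,0,1],64),
  ([0,1,0,1,0,1],40),
  ([0,1,0,1,0,1],48),
  ([0,0,0,1,0,0,0,1,0,0,0,1,0,0,0,1,0,0,0,1,0,0,0,1],56),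
  ([0,0,0,1,0,0,0,1,0,0,0,1,0,0,0,1,0,0,0,1,0,0,0,1],64)]
noncomputable def uu : List (List ℕ) := [[],
  [10],
  [10,10],
  [11],
  [12,20,22,19,24,26],
  [13,20,22,19,24,26],
  [14,20,24,25,32,29,34],
  [16],
  [16,10],
  [17,10,20,22,27,34],
  [18,10,22,23,25,32,36]]
noncomputable def wT : Tr ℕ := (.leaf w0)
noncomputable def en : Enum := ⟨inv, 8, 255, 3, fun i => force (Nat.shiftRight i 10) fun c => look 0xffffff (wT.get c) (Nat.mul 24 (Nat.land i 1023)), 12, [8,24,64,48,56], 256⟩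
noncomputable def tst : (ℕ → ℕ) → Bool := outTest (appT tabs t61 0xff) bs aK rT [(10, 12), (58, 60)] uu
noncomputable def imgL : List (List ℕ) := [[],
  [],
  [],
  [],
  [],
  [],
  [],
  [],
  [],
  [],
  [],
  [],
  [],
  [],
  [],
  [],
  [],
  [],
  [],
  [],
  [],
  [],
  [],
  [],
  [],
  [],
  [],
  [],
  [],
  [],
  [],
  [],
  [],
  [],
  [],
  [],
  [],
  [18,10,23,30,33,33],
  [17,10,19,22,24,31,36,33],
  [11,19,21,24,26,34],
  [18,11,20,27,32,29,34],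
  [12,19,19,21,32,35,33],
  [16,10,22,19,31,31,29,36,33],
  [18,10,21,27,32,29,33,33],
  [20,22,24,25,29]]
noncomputable def img (a : ℕ) : List ℕ := nth imgL [] a
noncomputable def nQ : List (List ℕ) := [[],
  [0,1],
  [0,0,0,1],
  [0,1,0,1],
  [1,0,0,1]]

end Cfsg.Agent.CG.TM12
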