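import Cfsg.Agent.Lib.Grp.TM12.OC0
import Cfsg.Agent.Lib.Grp.TM12.Main

set_option autoImplicit false
set_option maxRecDepth 100000

namespace Cfsg.Agent.CG.TM12

theorem chainC : ChainOK act cc [] :=
  chainOK_of_chk act cc [] (by simp) (okc_of_okcb Oc112) Oc113
  (allL_cons Oc109 (allL_cons Oc110 (allL_cons Oc111 (allL_nil _))))

theorem chainP : ChainOK act pc [] :=
  chainOK_of_chk act pc [] (by simp) (okc_of_okcb Oc124) Oc125
  (allL_cons Oc121 (allL_cons Oc122 (allL_cons Oc123 (allL_nil _))))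

theorem boundsP : Bounds tpR pS (2 ^ 6) :=
  (show prodTC tp = 2 ^ 6 by decide +kernel) ▸ bounds_of_chain Oc120
  (allL_cons Oc114 (allL_cons Oc116 (allL_cons Oc118 (allL_nil _))))
  (allL_cons Oc115 (allL_cons Oc117 (allL_cons Oc119 (allL_nil _))))

theorem cardP : Nat.card (cl act.gen pS) = 2 ^ 6 :=
  card_cl_eq chainP (by decide +kernel) boundsP (base.rels Oc126) (by decide +kernel)

theorem centP : ∀ g ∈ Subgroup.centralizer (cl act.gen pS : Set PG), ∃ φ ∈ pF, g = ev act.gen φ :=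
  centralizer_subset (l := mc0) (L := [mc1, mc2, mc3, mc4]) chain card_le base (Q := pQ) (Rf := pR) (by decide +kernel) (by decide +kernel) (by decide +kernel)
    Oc127

theorem autT (φ : MulAut PG) : ∃ g : PG, φ (act.gen 12) = g * act.gen 12 * g⁻¹ :=
  aut_class base (r := 2) (by norm_num) cardP (not_dvd_of_eq card (by decide +kernel)) centP
    Oc128 φ

theorem autA (φ : MulAut PG) : ∃ g : PG, ∃ a' ∈ aK, g * φ (act.gen 10) * g⁻¹ = act.gen a' :=
  aut_pow base (p := 11) (by norm_num) (not_dvd_of_eq card (by decide +kernel))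
    Oc129 φ

theorem enumOK : en.OK app tst 0 495 0 379303512097 :=
  (Enum.ok_of_chk Oc130)

theorem cent_le : prodN cc ≤ Nat.card (Subgroup.centralizer {act.gen 12}) :=
  le_card_centralizer base chainC Oc131

theorem classAll (g : PG) : ∃ f, act.Rep (g * act.gen 12 * g⁻¹) f ∧ tst f = true :=
  Enum.OK.all (A := act) (E := en) enumOK hinv (okc_of_okcb (n := 12) (w := 8) (by decide +kernel)) cent_le
    (card ▸ (ble_iff _ _).1 (by decide +kernel)) g

theorem autPair (φ : MulAut PG) : ∃ s ∈ [(10, 12), (58, 60)], ∃ g : PG, φ (act.gen 10) = g * act.gen s.1 * g⁻¹ ∧ φ (act.gen 12) = g * act.gen s.2 * g⁻¹ :=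
  aut_pair base Oc132 (okc_of_okcb (n := 12) (w := 8) (by decide +kernel)) autA autT classAll φ

theorem sigma : ∃ σ : MulAut PG, σ (act.gen 10) = act.gen 58 ∧ σ (act.gen 12) = act.gen 60 :=
  exists_aut' base bounds rels clS card.ge (img := img)
    (allL_cons Oc133 (allL_cons Oc134 (allL_cons Oc135 (allL_cons Oc136 (allL_cons Oc137 (allL_cons Oc138 (allL_cons Oc139 (allL_cons Oc140 (allL_cons Oc141 (allL_cons Oc142 (allL_cons Oc143 (allL_cons Oc144 (allL_cons Oc145 (allL_cons Oc146 (allL_cons Oc147 (allL_cons Oc148 (allL_cons Oc149 (allL_cons Oc150 (allL_cons Oc151 (allL_cons Oc152 (allL_cons Oc153 (allL_cons Oc154 (allL_cons Oc155 (allL_cons Oc156 (allL_nil _)))))))))))))))))))))))))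
    clAT (va := [42,37,37,44,41,37,37,42,43,39,37,42,38,41,37,37]) (vt := [40,44,39,42,43,39,37,42,37]) (wa := [37,44,40,42,43,39,37,42,40,37,41,39,37]) (wt := [38,44,40,37,42,43,39,42,40,37]) (by decide +kernel) (by decide +kernel)

theorem card_out : Nat.card (Out PG) = 2 := by
  obtain ⟨σ, h1, h2⟩ := sigma
  exact card_out_eq_two clAT σ h1 h2 (not_conj_pair (l := mc0) (L := [mc1, mc2, mc3, mc4]) chain card_le base (Q := nQ) (Rf := [[0], [1]]) (by decide +kernel)
    Oc157) autPair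

end Cfsg.Agent.CG.TM12
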